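import Cfsg.Agent.KSG55.NilpotentCount
import Cfsg.Agent.KnownSimple58.CyclicDecomp

set_option autoImplicit false

/-! Similarity classes of nilpotent matrices and partitions. -/

namespace Cfsg.Agent.KSG55.Nilp

open Matrix

variable {F : Type*} [Field F]

/-- The shift on `F ^ d`. -/
def shiftL (d : ℕ) : (Fin d → F) →ₗ[F] (Fin d → F) where
  toFun v i := if h : 0 < (i : ℕ) then v ⟨(i : ℕ) - 1, lt_of_le_of_lt (Nat.sub_le _ _) i.2⟩ else 0
  map_add' v w := by ext i; by_cases h : 0 < (i : ℕ) <;> simp [h]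
  map_smul' c v := by ext i; by_cases h : 0 < (i : ℕ) <;> simp [h]

theorem shiftL_pow_apply (d : ℕ) : ∀ (j : ℕ) (v : Fin d → F) (i : Fin d),
    ((shiftL d : Module.End F (Fin d → F)) ^ j) v i =
      if j ≤ (i : ℕ) then v ⟨(i : ℕ) - j, lt_of_le_of_lt (Nat.sub_le _ _) i.2⟩ else 0 := by
  intro j
  induction j with
  | zero => intro v i; simp
  | succ j ih =>
    intro v i
    rw [pow_succ, Module.End.mul_apply, ih]
    by_cases h : j + 1 ≤ (i : ℕ)
    · rw [if_pos (by omega), if_pos h]
      simp only [shiftL, LinearMap.coe_mk, AddHom.coe_mk]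
      rw [dif_pos (by omega : 0 < (i : ℕ) - j)]
      congr 1
    · rw [if_neg h]
      split_ifs with h'
      · simp only [shiftL, LinearMap.coe_mk, AddHom.coe_mk]
        rw [dif_neg (by omega : ¬ 0 < (i : ℕ) - j)]
      · rfl

theorem card_ker_shiftL [Fintype F] (d j : ℕ) :
    Nat.card {v : Fin d → F // ((shiftL d : Module.End F (Fin d → F)) ^ j) v = 0} =
      Fintype.card F ^ (min d j) := by
  classical
  have hiff : ∀ v : Fin d → F, ((shiftL d : Module.End F (Fin d → F)) ^ j) v = 0 ↔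
      ∀ i : Fin d, (i : ℕ) + j < d → v i = 0 := by
    intro v
    constructor
    · intro h i hi
      have := congrFun h ⟨(i : ℕ) + j, hi⟩
      rw [shiftL_pow_apply, if_pos (Nat.le_add_left _ _)] at this
      simpa using this
    · intro h
      funext i
      rw [shiftL_pow_apply]
      split_ifs with h'
      · exact h _ (by have := i.2; simp only; omega)
      · rfl
  rw [show Fintype.card F ^ (min d j) = Nat.card ({i : Fin d // ¬ (i : ℕ) + j < d} → F) by
    rw [Nat.card_eq_fintype_card, Fintype.card_fun]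
    congr 1
    rw [Fintype.card_subtype]
    rcases le_total d j with h | h
    · rw [min_eq_left h, Finset.filter_true_of_mem (fun i _ => by omega)]
      simp
    · rw [min_eq_right h]
      refine (Finset.card_fin j).symm.trans (Finset.card_bij' (t := Finset.univ.filter fun i : Fin d => ¬ (i : ℕ) + j < d)
        (fun (k : Fin j) _ => (⟨(k : ℕ) + (d - j), by omega⟩ : Fin d))
        (fun (i : Fin d) hi => (⟨(i : ℕ) - (d - j), by have := (Finset.mem_filter.mp hi).2; omega⟩ : Fin j))
        (fun k _ => Finset.mem_filter.mpr ⟨Finset.mem_univ _, by simp only; omega⟩)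
        (fun i _ => Finset.mem_univ _) (fun k _ => Fin.ext (by simp)) (fun i hi => Fin.ext (by
          have := (Finset.mem_filter.mp hi).2
          simp only; omega)))]
  refine Nat.card_congr
    { toFun := fun v i => v.1 i.1
      invFun := fun w => ⟨fun i => if h : ¬ (i : ℕ) + j < d then w ⟨i, h⟩ else 0, (hiff _).mpr fun i hi => by simp [hi]⟩
      left_inv := fun v => Subtype.ext (funext fun i => ?_)
      right_inv := fun w => funext fun i => by simp [i.2] }
  simp only
  split_ifs with h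
  · exact ((hiff _).mp v.2 i h).symm
  · rfl

/-- A decomposition into shift blocks. -/
def IsBlocks {n : ℕ} (N : Matrix (Fin n) (Fin n) F) {t : ℕ} (d : Fin t → ℕ) : Prop :=
  (∀ i, 0 < d i) ∧ ∃ ψ : (Fin n → F) ≃ₗ[F] (Π i, Fin (d i) → F), ∀ v i, ψ (N.mulVec v) i = shiftL (d i) (ψ v i)

theorem exists_blocks {F : Type*} [Field F] {n : ℕ} {N : Matrix (Fin n) (Fin n) F} (hN : IsNilpotent N) :
    ∃ (t : ℕ) (d : Fin t → ℕ), IsBlocks N d := by
  classical
  obtain ⟨j, hj⟩ := hN
  obtain ⟨ι, hι, q, e, g, ψ, hg, hψ⟩ := KS58.exists_cyclic_decomp N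
  have hpow : ∀ k v i, ψ ((N ^ k).mulVec v) i = AdjoinRoot.root (g i) ^ k * ψ v i := by
    intro k
    induction k with
    | zero => simp
    | succ k ih => intro v i; rw [pow_succ, ← Matrix.mulVec_mulVec, ih, hψ, ← mul_assoc, pow_succ]
  have hX : ∀ i, ∃ m, g i = Polynomial.X ^ m := fun i => by
    have h1 : g i ∣ Polynomial.X ^ j := by
      rw [← AdjoinRoot.mk_eq_zero, map_pow, AdjoinRoot.mk_X]
      have := hpow j (ψ.symm (Pi.single i 1)) i
      simpa [hj] using this.symm
    obtain ⟨m, -, hm⟩ := (dvd_prime_pow Polynomial.prime_X j).mp h1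
    exact ⟨m, Polynomial.eq_of_monic_of_associated (hg i).2.2 (Polynomial.monic_X_pow m) hm⟩
  choose m hm using hX
  have hB : ∀ i, ∃ φ : AdjoinRoot (g i) ≃ₗ[F] (Fin (m i) → F),
      ∀ y, φ (AdjoinRoot.root (g i) * y) = shiftL (m i) (φ y) := by
    intro i
    have hne : g i ≠ 0 := (hg i).2.2.ne_zero
    have hdim : (AdjoinRoot.powerBasis hne).dim = m i := by simp [AdjoinRoot.powerBasis_dim, hm i]
    let b := (AdjoinRoot.powerBasis hne).basis.reindex (finCongr hdim)
    have hb : ∀ k : Fin (m i), b k = AdjoinRoot.root (g i) ^ (k : ℕ) := fun k => by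
      simp [b, Module.Basis.reindex_apply, AdjoinRoot.powerBasis_gen]
    have hz : AdjoinRoot.root (g i) ^ (m i) = 0 := by
      rw [← AdjoinRoot.mk_X, ← map_pow, AdjoinRoot.mk_eq_zero, hm i]
    refine ⟨b.equivFun, fun y => ?_⟩
    have : b.equivFun.toLinearMap ∘ₗ LinearMap.mulLeft F (AdjoinRoot.root (g i)) =
        shiftL (m i) ∘ₗ b.equivFun.toLinearMap := by
      refine b.ext fun k => funext fun l => ?_
      simp only [LinearMap.comp_apply, LinearEquiv.coe_coe, LinearMap.mulLeft_apply, hb, ← pow_succ']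
      rw [← hb k, Module.Basis.equivFun_apply, Module.Basis.equivFun_apply, Module.Basis.repr_self]
      by_cases hk : (k : ℕ) + 1 < m i
      · rw [← hb ⟨(k : ℕ) + 1, hk⟩, Module.Basis.repr_self]
        simp only [shiftL, LinearMap.coe_mk, AddHom.coe_mk, Finsupp.single_apply]
        by_cases hl : 0 < (l : ℕ)
        · rw [dif_pos hl]
          congr 1
          simp only [eq_iff_iff, Fin.ext_iff]; omega
        · rw [dif_neg hl, if_neg]
          simp only [Fin.ext_iff]; omega
      · have hk' : (k : ℕ) + 1 = m i := by have := k.2; omega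
        rw [hk', hz, map_zero]
        simp only [Finsupp.coe_zero, Pi.zero_apply, shiftL, LinearMap.coe_mk, AddHom.coe_mk, Finsupp.single_apply]
        split_ifs with h1 h2
        · have h3 : (k : ℕ) = (l : ℕ) - 1 := by rw [h2]
          have := l.2; omega
        · rfl
        · rfl
    exact LinearMap.congr_fun this y
  choose φ hφ using hB
  let J := {i : ι // 0 < m i}
  let σ := Fintype.equivFin J
  refine ⟨Fintype.card J, fun k => m (σ.symm k).1, fun k => (σ.symm k).2, ?_⟩
  let strip : (Π i, Fin (m i) → F) ≃ₗ[F] (Π k : Fin (Fintype.card J), Fin (m (σ.symm k).1) → F) :=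
    { toFun := fun x k => x (σ.symm k).1
      map_add' := fun x y => rfl
      map_smul' := fun c x => rfl
      invFun := fun y i => if h : 0 < m i then
          (fun l => y (σ ⟨i, h⟩) (Fin.cast (by rw [Equiv.symm_apply_apply]) l)) else 0
      left_inv := fun x => funext fun i => by
        by_cases h : 0 < m i
        · simp only [dif_pos h]
          funext l
          have : ∀ (a : J) (ha : a = ⟨i, h⟩) (pf : m i = m a.1), x a.1 (Fin.cast pf l) = x i l := by
            rintro a rfl pf; rfl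
          exact this _ (σ.symm_apply_apply _) _
        · funext l; exact absurd l.2 (by omega)
      right_inv := fun y => funext fun k => by
        simp only [dif_pos (σ.symm k).2]
        funext l
        have : ∀ (a : Fin (Fintype.card J)) (ha : a = k) (pf : m (σ.symm k).1 = m (σ.symm a).1),
            y a (Fin.cast pf l) = y k l := by
          rintro a rfl pf; rfl
        exact this _ (σ.apply_symm_apply k) _ }
  exact ⟨(ψ.trans (LinearEquiv.piCongrRight φ)).trans strip, fun v k => by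
    show φ _ (ψ (N.mulVec v) _) = shiftL _ (φ _ (ψ v _))
    rw [hψ, hφ]⟩

theorem IsBlocks.pow_apply {n : ℕ} {N : Matrix (Fin n) (Fin n) F} {t : ℕ} {d : Fin t → ℕ}
    {ψ : (Fin n → F) ≃ₗ[F] (Π i, Fin (d i) → F)} (h : ∀ v i, ψ (N.mulVec v) i = shiftL (d i) (ψ v i)) :
    ∀ (j : ℕ) v i, ψ ((N ^ j).mulVec v) i = ((shiftL (d i) : Module.End F (Fin (d i) → F)) ^ j) (ψ v i) := by
  intro j
  induction j with
  | zero => simp
  | succ j ih => intro v i; rw [pow_succ', ← Matrix.mulVec_mulVec, h, ih, pow_succ', Module.End.mul_apply]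

theorem IsBlocks.isNilpotent {n : ℕ} {N : Matrix (Fin n) (Fin n) F} {t : ℕ} {d : Fin t → ℕ}
    (h : IsBlocks N d) : IsNilpotent N := by
  obtain ⟨-, ψ, hψ⟩ := h
  refine ⟨∑ i, d i, Matrix.ext_of_mulVec_single fun k => ψ.injective (funext fun i => funext fun l => ?_)⟩
  rw [IsBlocks.pow_apply hψ, shiftL_pow_apply, if_neg]
  · rw [Matrix.zero_mulVec, map_zero]; rfl
  · have := Finset.single_le_sum (f := d) (fun _ _ => Nat.zero_le _) (Finset.mem_univ i)
    have := l.2
    omega

theorem IsBlocks.sum_eq {n : ℕ} {N : Matrix (Fin n) (Fin n) F} {t : ℕ} {d : Fin t → ℕ}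
    (h : IsBlocks N d) : ∑ i, d i = n := by
  obtain ⟨-, ψ, -⟩ := h
  have := LinearEquiv.finrank_eq ψ
  simpa [Module.finrank_pi_fintype] using this.symm

theorem IsBlocks.card_ker [Fintype F] {n : ℕ} {N : Matrix (Fin n) (Fin n) F} {t : ℕ} {d : Fin t → ℕ}
    (h : IsBlocks N d) (j : ℕ) :
    Nat.card {v : Fin n → F // (N ^ j).mulVec v = 0} = Fintype.card F ^ (∑ i, min (d i) j) := by
  obtain ⟨-, ψ, hψ⟩ := h
  rw [← Finset.prod_pow_eq_pow_sum, ← Finset.prod_congr rfl (fun i _ => card_ker_shiftL (F := F) (d i) j),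
    ← Nat.card_pi]
  refine Nat.card_congr ((ψ.toEquiv.subtypeEquiv fun v => ?_).trans (Equiv.subtypePiEquivPi (p := fun {i} w =>
    ((shiftL (d i) : Module.End F (Fin (d i) → F)) ^ j) w = 0)))
  rw [← ψ.map_eq_zero_iff, funext_iff]
  exact forall_congr' fun i => by rw [IsBlocks.pow_apply hψ]; rfl

theorem IsBlocks.count_eq [Fintype F] {n : ℕ} {N N' : Matrix (Fin n) (Fin n) F} {t t' : ℕ} {d : Fin t → ℕ}
    {d' : Fin t' → ℕ} (h : IsBlocks N d) (h' : IsBlocks N' d')
    (hc : ∀ j, Nat.card {v : Fin n → F // (N ^ j).mulVec v = 0} = Nat.card {v : Fin n → F // (N' ^ j).mulVec v = 0})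
    (k : ℕ) : Fintype.card {i // d i = k} = Fintype.card {i // d' i = k} := by
  classical
  rcases Nat.eq_zero_or_pos k with rfl | hk
  · rw [Fintype.card_eq_zero_iff.mpr ⟨fun i => (h.1 i.1).ne' i.2⟩, Fintype.card_eq_zero_iff.mpr ⟨fun i => (h'.1 i.1).ne' i.2⟩]
  have ha : ∀ j, ∑ i, min (d i) j = ∑ i, min (d' i) j := fun j =>
    Nat.pow_right_injective (Fintype.one_lt_card (α := F)) (by
      have := hc j; rwa [h.card_ker, h'.card_ker] at this)
  have key : ∀ {s : ℕ} (e : Fin s → ℕ), (Fintype.card {i // e i = k} : ℤ) =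
      2 * ((∑ i, min (e i) k : ℕ) : ℤ) - ((∑ i, min (e i) (k - 1) : ℕ) : ℤ) - ((∑ i, min (e i) (k + 1) : ℕ) : ℤ) := by
    intro s e
    rw [Fintype.card_subtype, Finset.card_filter]
    push_cast
    rw [Finset.mul_sum, ← Finset.sum_sub_distrib, ← Finset.sum_sub_distrib]
    exact Finset.sum_congr rfl fun i _ => by split_ifs <;> omega
  have e : (Fintype.card {i // d i = k} : ℤ) = (Fintype.card {i // d' i = k} : ℤ) := by
    rw [key d, key d', ha, ha, ha]
  exact_mod_cast e

theorem IsBlocks.conj {n : ℕ} {N N' : Matrix (Fin n) (Fin n) F} {t t' : ℕ} {d : Fin t → ℕ}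
    {d' : Fin t' → ℕ} (h : IsBlocks N d) (h' : IsBlocks N' d')
    (hc : ∀ k, Fintype.card {i // d i = k} = Fintype.card {i // d' i = k}) :
    ∃ g : (Matrix (Fin n) (Fin n) F)ˣ, (g : Matrix (Fin n) (Fin n) F) * N = N' * (g : Matrix (Fin n) (Fin n) F) := by
  classical
  obtain ⟨-, ψ, hψ⟩ := h
  obtain ⟨-, ψ', hψ'⟩ := h'
  let σ : Fin t ≃ Fin t' := Equiv.ofFiberEquiv (f := d) (g := d') fun k => Fintype.equivOfCardEq (hc k)
  have hσ : ∀ i, d' (σ i) = d i := fun i => Equiv.ofFiberEquiv_map _ i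
  let Φ : (Π i, Fin (d i) → F) ≃ₗ[F] (Π i', Fin (d' i') → F) :=
    (LinearEquiv.piCongrRight fun i => LinearEquiv.funCongrLeft F F (finCongr (hσ i))).trans
      (LinearEquiv.piCongrLeft F (fun i' => Fin (d' i') → F) σ)
  let f := (ψ.trans Φ).trans ψ'.symm
  have hf : ∀ v, f (N.mulVec v) = N'.mulVec (f v) := by
    intro v
    apply ψ'.injective
    refine funext fun i' => ?_
    obtain ⟨i, rfl⟩ := σ.surjective i'
    rw [hψ']
    simp only [f, LinearEquiv.trans_apply, LinearEquiv.apply_symm_apply]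
    show (LinearEquiv.piCongrLeft F (fun i' => Fin (d' i') → F) σ) _ (σ i) =
      shiftL _ ((LinearEquiv.piCongrLeft F (fun i' => Fin (d' i') → F) σ) _ (σ i))
    have e : ∀ w, (LinearEquiv.piCongrLeft F (fun i' => Fin (d' i') → F) σ) w (σ i) = w i := fun w =>
      Equiv.piCongrLeft_apply_apply (P := fun i' => Fin (d' i') → F) σ w i
    rw [e, e]
    show LinearEquiv.funCongrLeft F F (finCongr (hσ i)) (ψ (N.mulVec v) i) = shiftL (d' (σ i)) (LinearEquiv.funCongrLeft F F (finCongr (hσ i)) (ψ v i))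
    rw [hψ]
    funext l
    simp [shiftL, LinearEquiv.funCongrLeft_apply, LinearMap.funLeft]
  refine ⟨⟨LinearMap.toMatrix' f.toLinearMap, LinearMap.toMatrix' f.symm.toLinearMap,
    by rw [← LinearMap.toMatrix'_comp]; simp, by rw [← LinearMap.toMatrix'_comp]; simp⟩, ?_⟩
  apply (Matrix.toLin' (R := F)).injective
  show Matrix.toLin' (LinearMap.toMatrix' f.toLinearMap * N) = Matrix.toLin' (N' * LinearMap.toMatrix' f.toLinearMap)
  rw [Matrix.toLin'_mul, Matrix.toLin'_mul, Matrix.toLin'_toMatrix']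
  exact LinearMap.ext hf

theorem exists_matrix_blocks {n t : ℕ} (d : Fin t → ℕ) (hd : ∀ i, 0 < d i) (hsum : ∑ i, d i = n) :
    ∃ N : Matrix (Fin n) (Fin n) F, IsBlocks N d := by
  let ψ : (Fin n → F) ≃ₗ[F] (Π i, Fin (d i) → F) :=
    LinearEquiv.ofFinrankEq _ _ (by simp [Module.finrank_pi_fintype, hsum])
  let S : (Π i, Fin (d i) → F) →ₗ[F] (Π i, Fin (d i) → F) :=
    LinearMap.pi fun i => shiftL (d i) ∘ₗ LinearMap.proj i
  refine ⟨LinearMap.toMatrix' (ψ.symm.toLinearMap ∘ₗ S ∘ₗ ψ.toLinearMap), hd, ψ, fun v i => ?_⟩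
  rw [LinearMap.toMatrix'_mulVec]
  simp [S]

theorem card_fibre {t : ℕ} (d : Fin t → ℕ) (k : ℕ) :
    Fintype.card {i // d i = k} = (Finset.univ.val.map d).count k := by
  classical
  rw [Multiset.count_map, Fintype.card_subtype]
  simp [Finset.card_def, eq_comm]

theorem partition_blocks {n : ℕ} (μ : Nat.Partition n) :
    ∃ (t : ℕ) (d : Fin t → ℕ), (∀ i, 0 < d i) ∧ ∑ i, d i = n ∧ Finset.univ.val.map d = μ.parts := by
  obtain ⟨L, hL⟩ := Quotient.exists_rep μ.parts
  have e : Finset.univ.val.map (fun i : Fin L.length => L.get i) = μ.parts := by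
    rw [← hL, Fin.univ_val_map]
    simp [List.ofFn_get]
  refine ⟨L.length, fun i => L.get i, fun i => μ.parts_pos ?_, ?_, e⟩
  · rw [← e]; exact Multiset.mem_map_of_mem _ (Finset.mem_univ i)
  · rw [Finset.sum, e, μ.parts_sum]

/-- Similarity classes of nilpotent matrices, as a bijection from partitions. -/
theorem exists_partition_rep [Fintype F] (n : ℕ) :
    ∃ rep : Nat.Partition n → Matrix (Fin n) (Fin n) F, (∀ μ, IsNilpotent (rep μ)) ∧
      (∀ μ ν (g : (Matrix (Fin n) (Fin n) F)ˣ),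
        (g : Matrix (Fin n) (Fin n) F) * rep μ = rep ν * (g : Matrix (Fin n) (Fin n) F) → μ = ν) ∧
      ∀ N, IsNilpotent N → ∃ μ, ∃ g : (Matrix (Fin n) (Fin n) F)ˣ,
        (g : Matrix (Fin n) (Fin n) F) * rep μ = N * (g : Matrix (Fin n) (Fin n) F) := by
  classical
  choose t d hd hsum hparts using fun μ : Nat.Partition n => partition_blocks μ
  choose rep hrep using fun μ => exists_matrix_blocks (F := F) (d μ) (hd μ) (hsum μ)
  refine ⟨rep, fun μ => (hrep μ).isNilpotent, fun μ ν g hg => ?_, fun N hN => ?_⟩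
  · have hc : ∀ j, Nat.card {v : Fin n → F // (rep μ ^ j).mulVec v = 0} =
        Nat.card {v : Fin n → F // (rep ν ^ j).mulVec v = 0} := fun j => by
      have hj : (g : Matrix (Fin n) (Fin n) F) * rep μ ^ j = rep ν ^ j * (g : Matrix (Fin n) (Fin n) F) :=
        (SemiconjBy.pow_right (a := (g : Matrix (Fin n) (Fin n) F)) hg j)
      refine Nat.card_congr (Equiv.subtypeEquiv
        { toFun := fun v => (g : Matrix (Fin n) (Fin n) F).mulVec v
          invFun := fun v => ((g⁻¹ : (Matrix (Fin n) (Fin n) F)ˣ) : Matrix (Fin n) (Fin n) F).mulVec v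
          left_inv := fun v => by simp [Matrix.mulVec_mulVec]
          right_inv := fun v => by simp [Matrix.mulVec_mulVec] } fun v => ?_)
      show _ ↔ (rep ν ^ j).mulVec ((g : Matrix (Fin n) (Fin n) F).mulVec v) = 0
      rw [Matrix.mulVec_mulVec, ← hj, ← Matrix.mulVec_mulVec]
      refine ⟨fun h => by rw [h, Matrix.mulVec_zero], fun h => ?_⟩
      have h' := congrArg (((g⁻¹ : (Matrix (Fin n) (Fin n) F)ˣ) : Matrix (Fin n) (Fin n) F).mulVec) h
      simpa [Matrix.mulVec_mulVec, ← Matrix.mul_assoc] using h'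
    refine Nat.Partition.ext (Multiset.ext.mpr fun k => ?_)
    rw [← hparts, ← hparts, ← card_fibre, ← card_fibre, (hrep μ).count_eq (hrep ν) hc k]
  · obtain ⟨t', d', hb⟩ := exists_blocks hN
    let μ : Nat.Partition n :=
      { parts := Finset.univ.val.map d'
        parts_pos := fun {i} hi => by
          obtain ⟨k, -, rfl⟩ := Multiset.mem_map.mp hi
          exact hb.1 k
        parts_sum := hb.sum_eq }
    exact ⟨μ, (hrep μ).conj hb fun k => by rw [card_fibre, card_fibre, hparts]⟩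

end Cfsg.Agent.KSG55.Nilp
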