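import Cfsg.Agent.KSG55.Inverter

set_option autoImplicit false

/-! An abelian `p`-subgroup (`p` odd) that contains all `p`-elements centralizing it is normalized
nontrivially by an even involution, unless it has only one nontrivial orbit. -/

namespace Cfsg.Agent.KSG55

open Equiv

theorem inverter_apply_eq_self {α : Type*} (Q : Subgroup (Perm α)) (hQ : IsMulCommutative Q) (x : α)
    (hx : ∀ g ∈ Q, g x = x) : inverter Q hQ x = x := by
  obtain ⟨h, hh⟩ := orbitRep_spec Q x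
  have hr : orbitRep Q x = x := by
    have := hx _ (Q.inv_mem h.2)
    nth_rewrite 1 [← hh] at this
    exact ((h : Perm α).symm_apply_apply (orbitRep Q x)).symm.trans this
  show inverterFun Q x = x
  rw [inverterFun_eq Q hQ 1 x (by simp [hr])]
  simp [hr]

variable {α : Type*}

/-- Elements of `P` fixing everything outside `A`. -/
def suppPart (P : Subgroup (Perm α)) (A : Set α) : Subgroup (Perm α) where
  carrier := {g | g ∈ P ∧ ∀ x, x ∉ A → g x = x}
  one_mem' := ⟨P.one_mem, fun _ _ => rfl⟩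
  mul_mem' := fun {a b} ha hb => ⟨P.mul_mem ha.1 hb.1, fun x hx => by
    rw [Perm.mul_apply, hb.2 x hx, ha.2 x hx]⟩
  inv_mem' := fun {a} ha => ⟨P.inv_mem ha.1, fun x hx => by
    conv_lhs => rw [← ha.2 x hx]
    exact a.symm_apply_apply x⟩

theorem suppPart_comm (P : Subgroup (Perm α)) (hP : IsMulCommutative P) (A : Set α) :
    IsMulCommutative (suppPart P A) :=
  ⟨⟨fun a b => Subtype.ext (show (a : Perm α) * b = b * a from
    congrArg Subtype.val (hP.is_comm.comm ⟨a, a.2.1⟩ ⟨b, b.2.1⟩))⟩⟩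

open Classical in
theorem exists_split [Finite α] {p : ℕ} [Fact p.Prime] (P : Subgroup (Perm α))
    (hP : IsMulCommutative P) (hpP : IsPGroup p P)
    (hmax : ∀ y : Perm α, (∀ g ∈ P, y * g = g * y) → (∃ k, y ^ p ^ k = 1) → y ∈ P)
    (A : Set α) (hA : ∀ g ∈ P, ∀ x, g x ∈ A ↔ x ∈ A) (g : Perm α) (hg : g ∈ P) :
    ∃ a ∈ suppPart P A, (∀ x ∈ A, a x = g x) ∧ (∀ x, x ∈ A → (a⁻¹ * g) x = x) ∧
      a⁻¹ * g ∈ suppPart P Aᶜ := by
  cases nonempty_fintype α
  let res : ∀ u : Perm α, u ∈ P → Perm α := fun u hu =>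
    Perm.ofSubtype (u.subtypePerm (p := fun x => x ∈ A) (hA u hu))
  have hmem : ∀ u hu x, x ∈ A → res u hu x = u x := fun u hu x hx => by
    simp only [res]
    rw [Perm.ofSubtype_apply_of_mem _ hx]
    rfl
  have hnot : ∀ u hu x, x ∉ A → res u hu x = x := fun u hu x hx =>
    Perm.ofSubtype_apply_of_not_mem _ hx
  have hres : res g hg ∈ P := by
    apply hmax
    · intro u hu
      have hc : ∀ x, g (u x) = u (g x) := fun x => DFunLike.congr_fun
        (congrArg Subtype.val (hP.is_comm.comm ⟨g, hg⟩ ⟨u, hu⟩)) x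
      refine Equiv.ext fun x => ?_
      simp only [Perm.mul_apply]
      by_cases hx : x ∈ A
      · rw [hmem g hg x hx, hmem g hg _ ((hA u hu x).mpr hx), hc]
      · rw [hnot g hg x hx, hnot g hg _ (fun h => hx ((hA u hu x).mp h))]
    · obtain ⟨k, hk⟩ := hpP ⟨g, hg⟩
      refine ⟨k, ?_⟩
      simp only [res]
      rw [← map_pow, Perm.subtypePerm_pow]
      have : g ^ p ^ k = 1 := congrArg Subtype.val hk
      convert map_one Perm.ofSubtype using 2
      exact Equiv.ext fun x => Subtype.ext (by simp [this])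
  refine ⟨res g hg, ⟨hres, fun x => hnot g hg x⟩, fun x => hmem g hg x, fun x hx => ?_,
    P.mul_mem (P.inv_mem hres) hg, fun x hx => ?_⟩
  · rw [Perm.mul_apply, ← hmem g hg x hx]
    exact (res g hg).symm_apply_apply x
  · rw [Set.mem_compl_iff, not_not] at hx
    rw [Perm.mul_apply, ← hmem g hg x hx]
    exact (res g hg).symm_apply_apply x

/-- The even involution, or a single nontrivial orbit. -/
theorem exists_even_involution_or_orbit [Fintype α] [DecidableEq α] {p : ℕ} [Fact p.Prime]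
    (hp : p ≠ 2) (P : Subgroup (Perm α)) (hP : IsMulCommutative P) (hpP : IsPGroup p P)
    (hmax : ∀ y : Perm α, (∀ g ∈ P, y * g = g * y) → (∃ k, y ^ p ^ k = 1) → y ∈ P) :
    (∃ t : Perm α, t * t = 1 ∧ Perm.sign t = 1 ∧ (∀ g ∈ P, t * g * t⁻¹ ∈ P) ∧
      ∃ g ∈ P, t * g * t⁻¹ ≠ g) ∨ (P = ⊥ ∨ ∃ r : α, ∀ g ∈ P, g r = r → g = 1) := by
  rcases eq_or_ne P ⊥ with hb | hb
  · exact Or.inr (Or.inl hb)
  obtain ⟨g0, hg0, hg01⟩ : ∃ g ∈ P, g ≠ (1 : Perm α) := by
    by_contra h
    push Not at h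
    exact hb ((Subgroup.eq_bot_iff_forall _).mpr h)
  obtain ⟨r, hr⟩ : ∃ r, g0 r ≠ r := by
    by_contra h
    push Not at h
    exact hg01 (Equiv.ext h)
  set A : Set α := {x | ∃ u ∈ P, u r = x} with hAdef
  have hA : ∀ g ∈ P, ∀ x, g x ∈ A ↔ x ∈ A := by
    intro g hg x
    constructor
    · rintro ⟨u, hu, e⟩
      exact ⟨g⁻¹ * u, P.mul_mem (P.inv_mem hg) hu, by
        rw [Perm.mul_apply, e]; exact g.symm_apply_apply x⟩
    · rintro ⟨u, hu, e⟩
      exact ⟨g * u, P.mul_mem hg hu, by rw [Perm.mul_apply, e]⟩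
  set tA := inverter (suppPart P A) (suppPart_comm P hP A) with htA
  set tB := inverter (suppPart P Aᶜ) (suppPart_comm P hP Aᶜ) with htB
  have hfA : ∀ x, x ∉ A → tA x = x := fun x hx =>
    inverter_apply_eq_self _ _ x fun g hg => hg.2 x hx
  have hfB : ∀ x, x ∈ A → tB x = x := fun x hx =>
    inverter_apply_eq_self _ _ x fun g hg => hg.2 x (fun h => h hx)
  have cdisj : ∀ a b : Perm α, (∀ x, x ∉ A → a x = x) → (∀ x, x ∈ A → b x = x) →
      a * b = b * a := fun a b ha hb => by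
    have : Perm.Disjoint a b := fun x => by
      by_cases hx : x ∈ A
      · exact Or.inr (hb x hx)
      · exact Or.inl (ha x hx)
    exact this.commute
  have hcA : ∀ g ∈ suppPart P Aᶜ, tA * g = g * tA := fun g hg =>
    cdisj _ _ hfA fun x hx => hg.2 x (fun h => h hx)
  have hcB : ∀ g ∈ suppPart P A, g * tB = tB * g := fun g hg =>
    cdisj _ _ hg.2 hfB
  have hcAB : tA * tB = tB * tA := cdisj _ _ hfA hfB
  have conjA : ∀ g ∈ P, tA * g * tA⁻¹ ∈ P := by
    intro g hg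
    obtain ⟨a, ha, -, -, hb⟩ := exists_split P hP hpP hmax A hA g hg
    have e : g = a * (a⁻¹ * g) := by group
    have h1 := inverter_conj _ (suppPart_comm P hP A) ⟨a, ha⟩
    have h2 : tA * (a⁻¹ * g) * tA⁻¹ = a⁻¹ * g := by rw [hcA _ hb, mul_inv_cancel_right]
    rw [e, show tA * (a * (a⁻¹ * g)) * tA⁻¹ = (tA * a * tA⁻¹) * (tA * (a⁻¹ * g) * tA⁻¹) by group, h2]
    exact P.mul_mem (h1 ▸ P.inv_mem ha.1) hb.1
  have conjB : ∀ g ∈ P, tB * g * tB⁻¹ ∈ P := by
    intro g hg
    obtain ⟨a, ha, -, -, hb⟩ := exists_split P hP hpP hmax A hA g hg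
    have e : g = a * (a⁻¹ * g) := by group
    have h1 := inverter_conj _ (suppPart_comm P hP Aᶜ) ⟨_, hb⟩
    have h2 : tB * a * tB⁻¹ = a := by rw [← hcB a ha, mul_inv_cancel_right]
    rw [e, show tB * (a * (a⁻¹ * g)) * tB⁻¹ = (tB * a * tB⁻¹) * (tB * (a⁻¹ * g) * tB⁻¹) by group, h2]
    exact P.mul_mem ha.1 (h1 ▸ P.inv_mem hb.1)
  have odd_ne : ∀ g ∈ P, g⁻¹ = g → g = 1 := by
    intro g hg e
    have h2 : (⟨g, hg⟩ : P) ^ 2 = 1 := Subtype.ext (by
      simp only [pow_two, Subgroup.coe_mul, Subgroup.coe_one]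
      nth_rewrite 1 [← e]
      exact inv_mul_cancel g)
    have hcop : (orderOf (⟨g, hg⟩ : P)).Coprime 2 := hpP.orderOf_coprime
      ((Nat.coprime_primes Fact.out Nat.prime_two).mpr hp) _
    have := Nat.eq_one_of_dvd_coprimes hcop dvd_rfl (orderOf_dvd_of_pow_eq_one h2)
    exact congrArg Subtype.val (orderOf_eq_one_iff.mp this)
  obtain ⟨a0, ha0, hag, -, -⟩ := exists_split P hP hpP hmax A hA g0 hg0
  have ha01 : a0 ≠ 1 := fun h => hr (by
    have := hag r ⟨1, P.one_mem, rfl⟩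
    rw [h] at this
    exact this.symm)
  have nA : tA * a0 * tA⁻¹ ≠ a0 := fun h => ha01 (odd_ne a0 ha0.1
    ((inverter_conj _ (suppPart_comm P hP A) ⟨a0, ha0⟩).symm.trans h))
  by_cases sA : Perm.sign tA = 1
  · exact Or.inl ⟨tA, inverter_mul_self _ _, sA, conjA, a0, ha0.1, nA⟩
  by_cases hB : ∃ b ∈ suppPart P Aᶜ, b ≠ 1
  · obtain ⟨b0, hb0, hb01⟩ := hB
    by_cases sB : Perm.sign tB = 1
    · exact Or.inl ⟨tB, inverter_mul_self _ _, sB, conjB, b0, hb0.1, fun h => hb01 (odd_ne b0 hb0.1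
        ((inverter_conj _ (suppPart_comm P hP Aᶜ) ⟨b0, hb0⟩).symm.trans h))⟩
    · refine Or.inl ⟨tA * tB, ?_, ?_, fun g hg => ?_, a0, ha0.1, ?_⟩
      · have a1 : tA * tA = 1 := inverter_mul_self _ _
        have b1 : tB * tB = 1 := inverter_mul_self _ _
        rw [mul_assoc, ← mul_assoc tB tA, ← hcAB, mul_assoc tA tB tB, b1, mul_one, a1]
      · rw [map_mul, (Int.units_eq_one_or _).resolve_left sA, (Int.units_eq_one_or _).resolve_left sB]
        rfl
      · have := conjA _ (conjB g hg)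
        simpa [mul_assoc, mul_inv_rev] using this
      · rw [show tA * tB * a0 * (tA * tB)⁻¹ = tA * (tB * a0 * tB⁻¹) * tA⁻¹ by group,
          show tB * a0 * tB⁻¹ = a0 by rw [← hcB a0 ha0, mul_inv_cancel_right]]
        exact nA
  · push Not at hB
    refine Or.inr (Or.inr ⟨r, fun g hg hgr => ?_⟩)
    obtain ⟨a, ha, hag, hfix, hb⟩ := exists_split P hP hpP hmax A hA g hg
    have hga : g = a := by
      have := hB _ hb
      rw [inv_mul_eq_one] at this
      exact this.symm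
    refine Equiv.ext fun x => ?_
    by_cases hx : x ∈ A
    · obtain ⟨u, hu, rfl⟩ := hx
      have := DFunLike.congr_fun (congrArg Subtype.val (hP.is_comm.comm ⟨g, hg⟩ ⟨u, hu⟩)) r
      simp only [Subgroup.coe_mul, Perm.mul_apply] at this
      rw [hgr] at this
      exact this
    · rw [hga]; exact ha.2 x hx

end Cfsg.Agent.KSG55
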