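import Mathlib

set_option autoImplicit false

/-! An abelian permutation group is inverted by a permutation acting orbit by orbit. -/

namespace Cfsg.Agent.KSG55

open Equiv

section Inverter

variable {α : Type*} (P : Subgroup (Perm α)) (hP : IsMulCommutative P)

/-- A chosen representative of the orbit of a point. -/
noncomputable def orbitRep (x : α) : α :=
  (Quotient.out (Quotient.mk (MulAction.orbitRel P α) x))

theorem orbitRep_spec (x : α) : ∃ g : P, (g : Perm α) (orbitRep P x) = x := by
  have h : MulAction.orbitRel P α (orbitRep P x) x :=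
    Quotient.mk_out (s := MulAction.orbitRel P α) x
  rw [MulAction.orbitRel_apply] at h
  obtain ⟨g, hg⟩ := h
  exact ⟨g⁻¹, by
    simp only [Subgroup.coe_inv, ← hg]
    exact (g : Perm α).symm_apply_apply x⟩

theorem orbitRep_apply (g : P) (x : α) : orbitRep P ((g : Perm α) x) = orbitRep P x :=
  congrArg Quotient.out (Quotient.sound (s := MulAction.orbitRel P α) ⟨g, rfl⟩)

include hP in
theorem inv_apply_eq_of_apply_eq {g h : P} {r : α} (e : (g : Perm α) r = (h : Perm α) r) :
    (g⁻¹ : Perm α) r = (h⁻¹ : Perm α) r := by
  have c : (g : Perm α)⁻¹ * (h : Perm α)⁻¹ = (h : Perm α)⁻¹ * (g : Perm α)⁻¹ :=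
    congrArg Subtype.val (hP.is_comm.comm g⁻¹ h⁻¹)
  have c' := DFunLike.congr_fun c ((h : Perm α) r)
  simp only [Perm.mul_apply] at c'
  rw [show (h : Perm α)⁻¹ ((h : Perm α) r) = r from (h : Perm α).symm_apply_apply r] at c'
  rw [← e, show (g : Perm α)⁻¹ ((g : Perm α) r) = r from (g : Perm α).symm_apply_apply r] at c'
  exact c'

/-- The map underlying the inverter. -/
noncomputable def inverterFun (x : α) : α :=
  (((orbitRep_spec P x).choose : P)⁻¹ : Perm α) (orbitRep P x)

include hP in
theorem inverterFun_eq (k : P) (x : α) (hk : (k : Perm α) (orbitRep P x) = x) :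
    inverterFun P x = (k⁻¹ : Perm α) (orbitRep P x) :=
  inv_apply_eq_of_apply_eq P hP ((orbitRep_spec P x).choose_spec.trans hk.symm)

include hP in
theorem inverterFun_apply (g : P) (x : α) :
    inverterFun P ((g : Perm α) x) = (g⁻¹ : Perm α) (inverterFun P x) := by
  obtain ⟨h, hh⟩ := orbitRep_spec P x
  rw [inverterFun_eq P hP (g * h) ((g : Perm α) x)
      (by rw [orbitRep_apply, Subgroup.coe_mul, Perm.mul_apply, hh]),
    inverterFun_eq P hP h x hh, orbitRep_apply, hP.is_comm.comm g h, Subgroup.coe_mul, mul_inv_rev,
    Perm.mul_apply]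

include hP in
theorem inverterFun_involutive : Function.Involutive (inverterFun P) := by
  intro x
  obtain ⟨h, hh⟩ := orbitRep_spec P x
  have hrr : orbitRep P (orbitRep P x) = orbitRep P x := by
    conv_rhs => rw [← hh, orbitRep_apply]
  have hr : inverterFun P (orbitRep P x) = orbitRep P x := by
    rw [inverterFun_eq P hP 1 (orbitRep P x) (by simp [hrr])]
    simp [hrr]
  rw [inverterFun_eq P hP h x hh, ← Subgroup.coe_inv, inverterFun_apply P hP, hr]
  simpa using hh

/-- The permutation inverting every element of an abelian permutation group. -/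
noncomputable def inverter : Perm α :=
  Function.Involutive.toPerm _ (inverterFun_involutive P hP)

theorem inverter_mul_self : inverter P hP * inverter P hP = 1 :=
  Equiv.ext (inverterFun_involutive P hP)

theorem inverter_conj (g : P) :
    inverter P hP * (g : Perm α) * (inverter P hP)⁻¹ = (g : Perm α)⁻¹ := by
  have hinv : (inverter P hP)⁻¹ = inverter P hP :=
    inv_eq_of_mul_eq_one_right (inverter_mul_self P hP)
  rw [hinv]
  refine Equiv.ext fun x => ?_
  show inverterFun P ((g : Perm α) (inverterFun P x)) = _
  rw [inverterFun_apply P hP, inverterFun_involutive P hP]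

end Inverter

/-- An element of order two in the normalizer but not in the centralizer of `P` makes the
automizer even. -/
theorem two_dvd_automizer_index {G : Type*} [Group G] (P : Subgroup G) (t : G) (ht : t * t = 1)
    (hN : t ∈ Subgroup.normalizer (P : Set G)) (hC : t ∉ Subgroup.centralizer (P : Set G)) :
    2 ∣ ((Subgroup.centralizer (P : Set G)).subgroupOf (Subgroup.normalizer (P : Set G))).index := by
  set C := (Subgroup.centralizer (P : Set G)).subgroupOf (Subgroup.normalizer (P : Set G)) with hCdef
  have hCn : C.Normal := Subgroup.normal_subgroupOf_iff_le_normalizer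
    (Subgroup.centralizer_le_normalizer _) |>.mpr (by
      intro g hg
      refine Subgroup.mem_normalizer_iff.mpr (fun x => ?_)
      simp only [Subgroup.mem_centralizer_iff]
      constructor
      · intro hx y hy
        have hy' : g⁻¹ * y * g ∈ (P : Set G) := by
          simpa using (Subgroup.mem_set_normalizer_iff.mp (Subgroup.inv_mem _ hg) y).mp hy
        simpa [mul_assoc] using congrArg (fun z => g * z * g⁻¹) (hx _ hy')
      · intro hx y hy
        have hy' : g * y * g⁻¹ ∈ (P : Set G) := (Subgroup.mem_set_normalizer_iff.mp hg y).mp hy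
        simpa [mul_assoc] using congrArg (fun z => g⁻¹ * z * g) (hx _ hy'))
  set q : Subgroup.normalizer (P : Set G) ⧸ C := QuotientGroup.mk ⟨t, hN⟩ with hq
  have h2 : orderOf q = 2 := by
    refine orderOf_eq_prime ?_ fun h => hC ?_
    · rw [hq, ← QuotientGroup.mk_pow]
      have e : (⟨t, hN⟩ : Subgroup.normalizer (P : Set G)) ^ 2 = 1 := Subtype.ext (by simpa [pow_two] using ht)
      rw [e, QuotientGroup.mk_one]
    · have := (QuotientGroup.eq_one_iff (N := C) _).mp h
      rw [hCdef, Subgroup.mem_subgroupOf] at this
      exact this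
  rw [Subgroup.index_eq_card, ← h2]
  exact orderOf_dvd_natCard q

/-- `t` inverting all of a group `P` of odd order (not trivial) gives an even automizer. -/
theorem two_dvd_automizer_index_of_inverts {G : Type*} [Group G] (P : Subgroup G) (t : G) (ht : t * t = 1)
    (hinv : ∀ g ∈ P, t * g * t⁻¹ ∈ P) (hne : ∃ g ∈ P, t * g * t⁻¹ ≠ g) :
    2 ∣ ((Subgroup.centralizer (P : Set G)).subgroupOf (Subgroup.normalizer (P : Set G))).index := by
  have hti : t⁻¹ = t := inv_eq_of_mul_eq_one_right ht
  refine two_dvd_automizer_index P t ht ?_ ?_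
  · refine Subgroup.mem_set_normalizer_iff.mpr fun n => ⟨hinv n, fun h => ?_⟩
    have := hinv _ h
    rw [hti] at this
    simpa [mul_assoc, ht, ← mul_assoc t t] using this
  · intro h
    obtain ⟨g, hg, hne⟩ := hne
    exact hne (by rw [← Subgroup.mem_centralizer_iff.mp h g hg, mul_inv_cancel_right])

end Cfsg.Agent.KSG55
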