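import Mathlib

set_option autoImplicit false

/-! The number of nilpotent `n × n` matrices over a field with `q` elements. -/

namespace Cfsg.Agent.KSG55.Nilp

open Matrix

variable {F : Type*} [Field F]

/-- Nilpotent matrices. -/
abbrev Nil (n : ℕ) (F : Type*) [Field F] := {A : Matrix (Fin n) (Fin n) F // IsNilpotent A}

/-- Conjugate to a sum of a nilpotent and an invertible block. -/
def IsSplit (k l : ℕ) (A : Matrix (Fin k ⊕ Fin l) (Fin k ⊕ Fin l) F) : Prop :=
  ∃ (g : (Matrix (Fin k ⊕ Fin l) (Fin k ⊕ Fin l) F)ˣ) (N : Nil k F) (M : (Matrix (Fin l) (Fin l) F)ˣ),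
    A = (g : Matrix _ _ F) * fromBlocks N.1 0 0 (M : Matrix _ _ F) *
      ((g⁻¹ : (Matrix (Fin k ⊕ Fin l) (Fin k ⊕ Fin l) F)ˣ) : Matrix _ _ F)

/-- Block diagonal units. -/
def diagU (k l : ℕ) (a : (Matrix (Fin k) (Fin k) F)ˣ) (b : (Matrix (Fin l) (Fin l) F)ˣ) :
    (Matrix (Fin k ⊕ Fin l) (Fin k ⊕ Fin l) F)ˣ :=
  ⟨fromBlocks (a : Matrix (Fin k) (Fin k) F) 0 0 (b : Matrix (Fin l) (Fin l) F),
    fromBlocks ((a⁻¹ : (Matrix (Fin k) (Fin k) F)ˣ) : Matrix (Fin k) (Fin k) F) 0 0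
      ((b⁻¹ : (Matrix (Fin l) (Fin l) F)ˣ) : Matrix (Fin l) (Fin l) F),
    by simp [fromBlocks_multiply], by simp [fromBlocks_multiply]⟩

theorem intertwine_zero {m m' : Type*} [Fintype m] [DecidableEq m] [Fintype m'] [DecidableEq m']
    {N : Matrix m m F} (hN : IsNilpotent N) (M : (Matrix m' m' F)ˣ) {X : Matrix m m' F}
    (h : X * (M : Matrix m' m' F) = N * X) : X = 0 := by
  obtain ⟨j, hj⟩ := hN
  have hp : ∀ i : ℕ, X * (M : Matrix m' m' F) ^ i = N ^ i * X := fun i => by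
    induction i with
    | zero => simp
    | succ i ih => rw [pow_succ, ← Matrix.mul_assoc, ih, Matrix.mul_assoc, h, ← Matrix.mul_assoc, ← pow_succ]
  have h1 := hp j
  rw [hj, Matrix.zero_mul, ← Units.val_pow_eq_pow_val] at h1
  calc X = X * ((M ^ j : (Matrix m' m' F)ˣ) : Matrix m' m' F) * (((M ^ j)⁻¹ : (Matrix m' m' F)ˣ) : Matrix m' m' F) := by
        rw [Matrix.mul_assoc, Units.mul_inv, Matrix.mul_one]
    _ = 0 := by rw [h1, Matrix.zero_mul]

theorem intertwine_zero' {m m' : Type*} [Fintype m] [DecidableEq m] [Fintype m'] [DecidableEq m']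
    {N : Matrix m m F} (hN : IsNilpotent N) (M : (Matrix m' m' F)ˣ) {X : Matrix m' m F}
    (h : X * N = (M : Matrix m' m' F) * X) : X = 0 := by
  obtain ⟨j, hj⟩ := hN
  have hp : ∀ i : ℕ, X * N ^ i = (M : Matrix m' m' F) ^ i * X := fun i => by
    induction i with
    | zero => simp
    | succ i ih => rw [pow_succ, ← Matrix.mul_assoc, ih, Matrix.mul_assoc, h, ← Matrix.mul_assoc, ← pow_succ]
  have h1 := hp j
  rw [hj, Matrix.mul_zero, ← Units.val_pow_eq_pow_val] at h1
  calc X = (((M ^ j)⁻¹ : (Matrix m' m' F)ˣ) : Matrix m' m' F) * (((M ^ j : (Matrix m' m' F)ˣ) : Matrix m' m' F) * X) := by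
        rw [← Matrix.mul_assoc, Units.inv_mul, Matrix.one_mul]
    _ = 0 := by rw [← h1, Matrix.mul_zero]

theorem exists_diagU (k l : ℕ) (g : (Matrix (Fin k ⊕ Fin l) (Fin k ⊕ Fin l) F)ˣ)
    (h1 : (g : Matrix (Fin k ⊕ Fin l) (Fin k ⊕ Fin l) F).toBlocks₁₂ = 0)
    (h2 : (g : Matrix (Fin k ⊕ Fin l) (Fin k ⊕ Fin l) F).toBlocks₂₁ = 0) :
    ∃ a b, g = diagU k l a b := by
  set G := (g : Matrix (Fin k ⊕ Fin l) (Fin k ⊕ Fin l) F) with hG
  have e : G = fromBlocks G.toBlocks₁₁ 0 0 G.toBlocks₂₂ := by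
    conv_lhs => rw [← fromBlocks_toBlocks G, h1, h2]
  have hdet : IsUnit G.det := (Matrix.isUnit_iff_isUnit_det G).mp g.isUnit
  rw [e, det_fromBlocks_zero₂₁] at hdet
  obtain ⟨a, ha⟩ := (Matrix.isUnit_iff_isUnit_det _).mpr (isUnit_of_mul_isUnit_left hdet)
  obtain ⟨b, hb⟩ := (Matrix.isUnit_iff_isUnit_det _).mpr (isUnit_of_mul_isUnit_right hdet)
  exact ⟨a, b, Units.ext (by rw [← hG, e]; simp [diagU, ha, hb])⟩

theorem card_split_mul [Fintype F] (k l : ℕ) :
    Nat.card {A // IsSplit (F := F) k l A} *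
        (Nat.card (Matrix (Fin k) (Fin k) F)ˣ * Nat.card (Matrix (Fin l) (Fin l) F)ˣ) =
      Nat.card (Matrix (Fin k ⊕ Fin l) (Fin k ⊕ Fin l) F)ˣ *
        (Nat.card (Nil k F) * Nat.card (Matrix (Fin l) (Fin l) F)ˣ) := by
  classical
  simp only [← Nat.card_prod]
  choose g₀ N₀ M₀ h₀ using fun A : {A // IsSplit (F := F) k l A} => A.2
  refine Nat.card_congr (Equiv.ofBijective
    (fun p => (g₀ p.1 * diagU k l p.2.1 p.2.2,
      ((⟨((p.2.1⁻¹ : (Matrix (Fin k) (Fin k) F)ˣ) : Matrix _ _ F) * (N₀ p.1).1 * (p.2.1 : Matrix _ _ F), by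
        obtain ⟨j, hj⟩ := (N₀ p.1).2
        exact ⟨j, by rw [Units.conj_pow', hj, mul_zero, zero_mul]⟩⟩ : Nil k F),
        p.2.2⁻¹ * M₀ p.1 * p.2.2))) ⟨?_, ?_⟩)
  · rintro ⟨A, a, b⟩ ⟨A', a', b'⟩ e
    simp only [Prod.mk.injEq, Subtype.mk.injEq] at e
    obtain ⟨e1, e2, e3⟩ := e
    have key : ∀ (A : {A // IsSplit (F := F) k l A}) (a : (Matrix (Fin k) (Fin k) F)ˣ)
        (b : (Matrix (Fin l) (Fin l) F)ˣ), A.1 = ((g₀ A * diagU k l a b : (Matrix (Fin k ⊕ Fin l) (Fin k ⊕ Fin l) F)ˣ) : Matrix (Fin k ⊕ Fin l) (Fin k ⊕ Fin l) F) *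
          fromBlocks (((a⁻¹ : (Matrix (Fin k) (Fin k) F)ˣ) : Matrix (Fin k) (Fin k) F) * (N₀ A).1 * (a : Matrix (Fin k) (Fin k) F)) 0 0
            ((b⁻¹ * M₀ A * b : (Matrix (Fin l) (Fin l) F)ˣ) : Matrix _ _ F) *
          (((g₀ A * diagU k l a b)⁻¹ : (Matrix (Fin k ⊕ Fin l) (Fin k ⊕ Fin l) F)ˣ) : Matrix (Fin k ⊕ Fin l) (Fin k ⊕ Fin l) F) := by
      intro A a b
      conv_lhs => rw [h₀ A]
      simp only [Units.val_mul, _root_.mul_inv_rev, Matrix.mul_assoc]
      congr 1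
      simp only [← Matrix.mul_assoc]
      congr 1
      show _ = fromBlocks (a : Matrix (Fin k) (Fin k) F) 0 0 (b : Matrix (Fin l) (Fin l) F) * fromBlocks _ 0 0 _ *
        fromBlocks ((a⁻¹ : (Matrix (Fin k) (Fin k) F)ˣ) : Matrix (Fin k) (Fin k) F) 0 0
          ((b⁻¹ : (Matrix (Fin l) (Fin l) F)ˣ) : Matrix (Fin l) (Fin l) F)
      simp [fromBlocks_multiply, Matrix.mul_assoc]
    have hA : A = A' := Subtype.ext (by rw [key A a b, key A' a' b', e1, e2, e3])
    subst hA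
    have e4 := congrArg (fun u : (Matrix (Fin k ⊕ Fin l) (Fin k ⊕ Fin l) F)ˣ => (u : Matrix (Fin k ⊕ Fin l) (Fin k ⊕ Fin l) F))
      (mul_left_cancel e1)
    have e5 := Matrix.fromBlocks_inj.mp e4
    exact Prod.ext rfl (Prod.ext (Units.ext e5.1) (Units.ext e5.2.2.2))
  · rintro ⟨g, N, M⟩
    let A : {A // IsSplit (F := F) k l A} := ⟨_, g, N, M, rfl⟩
    have h := h₀ A
    set u := (g₀ A)⁻¹ * g with hu
    have hcomm : (u : Matrix (Fin k ⊕ Fin l) (Fin k ⊕ Fin l) F) * fromBlocks N.1 0 0 (M : Matrix _ _ F) =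
        fromBlocks (N₀ A).1 0 0 (M₀ A : Matrix _ _ F) * (u : Matrix _ _ F) := by
      have h' : (g : Matrix _ _ F) * fromBlocks N.1 0 0 (M : Matrix _ _ F) *
          ((g⁻¹ : (Matrix (Fin k ⊕ Fin l) (Fin k ⊕ Fin l) F)ˣ) : Matrix (Fin k ⊕ Fin l) (Fin k ⊕ Fin l) F) = _ := h
      rw [Units.mul_inv_eq_iff_eq_mul] at h'
      rw [hu, Units.val_mul, Matrix.mul_assoc, h']
      simp only [← Matrix.mul_assoc, Units.inv_mul, Matrix.one_mul]
    have hcomm' := hcomm
    rw [← fromBlocks_toBlocks (u : Matrix (Fin k ⊕ Fin l) (Fin k ⊕ Fin l) F), fromBlocks_multiply,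
      fromBlocks_multiply, Matrix.fromBlocks_inj] at hcomm'
    simp only [Matrix.mul_zero, Matrix.zero_mul, add_zero, zero_add] at hcomm'
    obtain ⟨a, b, hab⟩ := exists_diagU k l u (intertwine_zero (N₀ A).2 M hcomm'.2.1)
      (intertwine_zero' N.2 (M₀ A) hcomm'.2.2.1)
    rw [hab] at hcomm
    have hc : (a : Matrix (Fin k) (Fin k) F) * N.1 = (N₀ A).1 * (a : Matrix (Fin k) (Fin k) F) ∧
        (b : Matrix (Fin l) (Fin l) F) * (M : Matrix _ _ F) = (M₀ A : Matrix _ _ F) * (b : Matrix (Fin l) (Fin l) F) := by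
      simp [diagU, fromBlocks_multiply, Matrix.fromBlocks_inj] at hcomm
      exact hcomm
    refine ⟨(A, a, b), ?_⟩
    refine Prod.ext ?_ (Prod.ext (Subtype.ext ?_) (Units.ext ?_))
    · show g₀ A * diagU k l a b = g
      rw [← hab, hu, mul_inv_cancel_left]
    · show _ * (N₀ A).1 * (a : Matrix (Fin k) (Fin k) F) = N.1
      rw [Matrix.mul_assoc, ← hc.1, ← Matrix.mul_assoc, Units.inv_mul, Matrix.one_mul]
    · show ((b⁻¹ * M₀ A * b : (Matrix (Fin l) (Fin l) F)ˣ) : Matrix (Fin l) (Fin l) F) = (M : Matrix (Fin l) (Fin l) F)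
      rw [Units.val_mul, Units.val_mul, Matrix.mul_assoc, ← hc.2, ← Matrix.mul_assoc, Units.inv_mul, Matrix.one_mul]

open Polynomial in
theorem charpoly_split {k l : ℕ} {A : Matrix (Fin k ⊕ Fin l) (Fin k ⊕ Fin l) F} (h : IsSplit k l A) :
    A.charpoly.rootMultiplicity 0 = k := by
  classical
  obtain ⟨g, N, M, rfl⟩ := h
  rw [Matrix.coe_units_inv, Matrix.charpoly_units_conj, Matrix.charpoly_fromBlocks_zero₂₁]
  have hN : N.1.charpoly = X ^ k := by
    have := (Matrix.isNilpotent_charpoly_sub_pow_of_isNilpotent N.2).eq_zero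
    simpa [sub_eq_zero] using this
  have hM : ¬ (M : Matrix (Fin l) (Fin l) F).charpoly.IsRoot 0 := by
    rw [Polynomial.IsRoot.def, Matrix.eval_charpoly, map_zero, zero_sub, Matrix.det_neg]
    exact mul_ne_zero (pow_ne_zero _ (neg_ne_zero.mpr one_ne_zero))
      ((Matrix.isUnit_iff_isUnit_det _).mp M.isUnit).ne_zero
  have hne : (M : Matrix (Fin l) (Fin l) F).charpoly ≠ 0 := (Matrix.charpoly_monic _).ne_zero
  rw [hN, Polynomial.rootMultiplicity_mul (mul_ne_zero (pow_ne_zero _ X_ne_zero) hne),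
    Polynomial.rootMultiplicity_eq_zero hM, add_zero]
  simpa using Polynomial.rootMultiplicity_X_sub_C_pow (0 : F) k

theorem exists_split {k l : ℕ} (A : Matrix (Fin k ⊕ Fin l) (Fin k ⊕ Fin l) F)
    (h : A.charpoly.rootMultiplicity 0 = k) : IsSplit k l A := by
  classical
  set f : Module.End F (Fin k ⊕ Fin l → F) := Matrix.toLin' A with hf
  obtain ⟨m₁, hm₁⟩ := Filter.eventually_atTop.mp f.eventually_isCompl_ker_pow_range_pow
  have hc := hm₁ (m₁ + 1) (Nat.le_succ _)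
  set W := LinearMap.ker (f ^ (m₁ + 1)) with hW
  set U := LinearMap.range (f ^ (m₁ + 1)) with hU
  have hfW : ∀ x ∈ W, f x ∈ W := fun x hx => by
    rw [hW, LinearMap.mem_ker] at hx ⊢
    rw [← Module.End.mul_apply, (Commute.pow_self f (m₁ + 1)).eq, Module.End.mul_apply, hx, map_zero]
  have hfU : ∀ x ∈ U, f x ∈ U := fun x ⟨y, hy⟩ => ⟨f y, by
    rw [← hy, ← Module.End.mul_apply, (Commute.pow_self f (m₁ + 1)).eq, Module.End.mul_apply]⟩
  have hdim : Module.finrank F W + Module.finrank F U = k + l := by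
    rw [Submodule.finrank_add_eq_of_isCompl hc]; simp
  obtain ⟨k', hk'⟩ : ∃ k', Module.finrank F W = k' := ⟨_, rfl⟩
  obtain ⟨l', hl'⟩ : ∃ l', Module.finrank F U = l' := ⟨_, rfl⟩
  let bW := Module.finBasisOfFinrankEq F W hk'
  let bU := Module.finBasisOfFinrankEq F U hl'
  let b := (bW.prod bU).map (Submodule.prodEquivOfIsCompl W U hc)
  let fW := f.restrict hfW
  let fU := f.restrict hfU
  have hfWn : IsNilpotent fW := ⟨m₁ + 1, by
    refine LinearMap.ext fun x => Subtype.ext ?_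
    show (((f.restrict hfW) ^ (m₁ + 1)) x : Fin k ⊕ Fin l → F) = 0
    rw [Module.End.pow_restrict]
    exact x.2⟩
  have hfUb : IsUnit fU := by
    rw [Module.End.isUnit_iff]
    have hinj : Function.Injective fU := by
      rw [← LinearMap.ker_eq_bot, eq_bot_iff]
      intro x hx
      have hx' : f (x : Fin k ⊕ Fin l → F) = 0 := congrArg Subtype.val (LinearMap.mem_ker.mp hx)
      have hxW : (x : Fin k ⊕ Fin l → F) ∈ W := by
        rw [hW, LinearMap.mem_ker, pow_succ, Module.End.mul_apply, hx', map_zero]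
      refine (Submodule.mem_bot F).mpr (Subtype.ext ?_)
      have h' := Submodule.mem_inf.mpr ⟨hxW, x.2⟩
      rwa [hc.inf_eq_bot, Submodule.mem_bot] at h'
    exact ⟨hinj, LinearMap.injective_iff_surjective.mp hinj⟩
  set N := LinearMap.toMatrix bW bW fW with hN
  obtain ⟨M, hM⟩ := hfUb.map (LinearMap.toMatrixAlgEquiv bU)
  have hblock : LinearMap.toMatrix b b f = fromBlocks N 0 0 (M : Matrix (Fin l') (Fin l') F) := by
    have hf' : f ∘ₗ (Submodule.prodEquivOfIsCompl W U hc).toLinearMap =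
        (Submodule.prodEquivOfIsCompl W U hc).toLinearMap ∘ₗ fW.prodMap fU := by
      refine LinearMap.ext fun p => ?_
      simp [fW, fU, LinearMap.restrict_apply]
    ext i j
    have hfb : f (b j) = (Submodule.prodEquivOfIsCompl W U hc) ((fW.prodMap fU) ((bW.prod bU) j)) :=
      LinearMap.congr_fun hf' ((bW.prod bU) j)
    rw [LinearMap.toMatrix_apply, hfb]
    rw [hM]
    rcases i with i | i <;> rcases j with j | j <;>
      simp [b, hN, LinearMap.toMatrix_apply, Matrix.fromBlocks, LinearMap.toMatrixAlgEquiv_apply]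
  have hNn : IsNilpotent N := hfWn.map (LinearMap.toMatrixAlgEquiv bW)
  let N' : Nil k' F := ⟨N, hNn⟩
  have hcp : A.charpoly = (fromBlocks N 0 0 (M : Matrix (Fin l') (Fin l') F)).charpoly := by
    rw [← hblock, LinearMap.charpoly_toMatrix f b, hf, ← Matrix.charpoly_toLin' A]
  have hk : k' = k := by
    rw [hcp] at h
    rw [← h, charpoly_split (k := k') (l := l') ⟨1, N', M, by simp [N']⟩]
  subst hk
  have hl : l' = l := by omega
  subst hl
  let g := (Pi.basisFun F (Fin k' ⊕ Fin l')).toMatrix b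
  have hgb : g * b.toMatrix (Pi.basisFun F (Fin k' ⊕ Fin l')) = 1 := Module.Basis.toMatrix_mul_toMatrix_flip _ _
  have hbg : b.toMatrix (Pi.basisFun F (Fin k' ⊕ Fin l')) * g = 1 := Module.Basis.toMatrix_mul_toMatrix_flip _ _
  refine ⟨⟨g, _, hgb, hbg⟩, N', M, ?_⟩
  show A = g * fromBlocks N 0 0 (M : Matrix (Fin l') (Fin l') F) * b.toMatrix (Pi.basisFun F (Fin k' ⊕ Fin l'))
  rw [← hblock, basis_toMatrix_mul_linearMap_toMatrix_mul_basis_toMatrix, hf, LinearMap.toMatrix_eq_toMatrix',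
    LinearMap.toMatrix'_toLin']

theorem card_split [Fintype F] (n : ℕ) :
    ∑ k ∈ Finset.range (n + 1), Nat.card {A : Matrix (Fin k ⊕ Fin (n - k)) (Fin k ⊕ Fin (n - k)) F // IsSplit k (n - k) A} =
      Fintype.card F ^ (n * n) := by
  classical
  have hcard : Fintype.card F ^ (n * n) = Nat.card (Matrix (Fin n) (Fin n) F) := by
    rw [Nat.card_eq_fintype_card, show Fintype.card (Matrix (Fin n) (Fin n) F) = Fintype.card (Fin n → Fin n → F) from rfl,
      Fintype.card_fun, Fintype.card_fun, Fintype.card_fin, ← pow_mul]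
  rw [hcard, Nat.card_eq_fintype_card, ← Finset.card_univ, Finset.card_eq_sum_card_fiberwise
    (f := fun A : Matrix (Fin n) (Fin n) F => A.charpoly.rootMultiplicity 0) (t := Finset.range (n + 1)) (fun A _ => ?_)]
  · refine Finset.sum_congr rfl fun k hk => ?_
    have hk' : k ≤ n := Nat.lt_succ_iff.mp (Finset.mem_range.mp hk)
    rw [← Nat.card_eq_finsetCard]
    let e := ((finCongr (Nat.add_sub_cancel' hk').symm).trans finSumFinEquiv.symm)
    refine Nat.card_congr ((Matrix.reindex e e).subtypeEquiv fun A => ?_).symm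
    simp only [Finset.mem_filter, Finset.mem_univ, true_and]
    constructor
    · exact fun h => exists_split _ (by rw [Matrix.charpoly_reindex]; exact h)
    · exact fun h => by rw [← Matrix.charpoly_reindex e]; exact charpoly_split h
  · simp only [Finset.coe_range, Set.mem_Iio]
    refine Nat.lt_succ_of_le ?_
    have h0 : A.charpoly ≠ 0 := (Matrix.charpoly_monic A).ne_zero
    have hd := Polynomial.natDegree_le_of_dvd (Polynomial.pow_rootMultiplicity_dvd A.charpoly 0) h0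
    simpa [Matrix.charpoly_natDegree_eq_dim] using hd

theorem card_units_succ [Fintype F] (n : ℕ) :
    (Nat.card (Matrix (Fin (n + 1)) (Fin (n + 1)) F)ˣ : ℚ) =
      ((Fintype.card F : ℚ) ^ (n + 1) - 1) * (Fintype.card F : ℚ) ^ n * Nat.card (Matrix (Fin n) (Fin n) F)ˣ := by
  have hq : 0 < Fintype.card F := Fintype.card_pos
  have h : ∀ m, (Nat.card (Matrix (Fin m) (Fin m) F)ˣ : ℚ) =
      ∏ i : Fin m, ((Fintype.card F : ℚ) ^ m - (Fintype.card F : ℚ) ^ (i : ℕ)) := fun m => by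
    rw [show Nat.card (Matrix (Fin m) (Fin m) F)ˣ = Nat.card (GL (Fin m) F) from rfl, Matrix.card_GL_field]
    push_cast [Nat.cast_sub (Nat.pow_le_pow_right hq (Fin.is_lt _).le)]
    rfl
  rw [h, h, Fin.prod_univ_succ]
  simp only [Fin.val_zero, pow_zero, Fin.val_succ, pow_succ']
  rw [mul_assoc]
  congr 1
  rw [← Finset.card_fin n, ← Finset.prod_const, Finset.card_fin, ← Finset.prod_mul_distrib]
  exact Finset.prod_congr rfl fun i _ => by ring

theorem card_units_ne [Fintype F] (n : ℕ) : (Nat.card (Matrix (Fin n) (Fin n) F)ˣ : ℚ) ≠ 0 :=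
  Nat.cast_ne_zero.mpr Nat.card_pos.ne'

theorem sum_div [Fintype F] (n : ℕ) :
    ∑ k ∈ Finset.range (n + 1), (Fintype.card F : ℚ) ^ (k * (k - 1)) / Nat.card (Matrix (Fin k) (Fin k) F)ˣ =
      (Fintype.card F : ℚ) ^ (n * n) / Nat.card (Matrix (Fin n) (Fin n) F)ˣ := by
  induction n with
  | zero => simp
  | succ n ih =>
    rw [Finset.sum_range_succ, ih, Nat.add_sub_cancel]
    have h1 := card_units_ne (F := F) n
    have hq : (Fintype.card F : ℚ) ≠ 0 := Nat.cast_ne_zero.mpr Fintype.card_ne_zero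
    have h2 : (Fintype.card F : ℚ) ^ (n + 1) - 1 ≠ 0 := by
      have : (1 : ℚ) < (Fintype.card F : ℚ) ^ (n + 1) :=
        one_lt_pow₀ (by exact_mod_cast Fintype.one_lt_card) (Nat.succ_ne_zero n)
      linarith
    rw [card_units_succ]
    field_simp
    ring

/-- The number of nilpotent matrices. -/
theorem card_nil [Fintype F] (n : ℕ) : Nat.card (Nil n F) = Fintype.card F ^ (n * (n - 1)) := by
  classical
  induction n using Nat.strong_induction_on with
  | _ n ih =>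
    have hS : ∀ k ∈ Finset.range (n + 1),
        (Nat.card {A : Matrix (Fin k ⊕ Fin (n - k)) (Fin k ⊕ Fin (n - k)) F // IsSplit k (n - k) A} : ℚ) =
          Nat.card (Matrix (Fin n) (Fin n) F)ˣ * ((Nat.card (Nil k F) : ℚ) / Nat.card (Matrix (Fin k) (Fin k) F)ˣ) := by
      intro k hk
      have hk' : k ≤ n := Nat.lt_succ_iff.mp (Finset.mem_range.mp hk)
      have hu : Nat.card (Matrix (Fin k ⊕ Fin (n - k)) (Fin k ⊕ Fin (n - k)) F)ˣ =
          Nat.card (Matrix (Fin n) (Fin n) F)ˣ :=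
        Nat.card_congr (Units.mapEquiv (Matrix.reindexAlgEquiv F F
          (finSumFinEquiv.trans (finCongr (Nat.add_sub_cancel' hk')))).toMulEquiv).toEquiv
      have h := card_split_mul (F := F) k (n - k)
      rw [hu] at h
      have h' := congrArg (fun m : ℕ => (m : ℚ)) h
      push_cast at h'
      have h1 := card_units_ne (F := F) k
      have h2 := card_units_ne (F := F) (n - k)
      field_simp
      apply mul_right_cancel₀ h2
      linear_combination h'
    have h := congrArg (fun m : ℕ => (m : ℚ)) (card_split (F := F) n)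
    push_cast at h
    rw [Finset.sum_congr rfl hS, ← Finset.mul_sum, Finset.sum_range_succ,
      Finset.sum_congr rfl (fun k hk => by rw [ih k (Finset.mem_range.mp hk), Nat.cast_pow])] at h
    have hd := sum_div (F := F) n
    rw [Finset.sum_range_succ] at hd
    have h1 := card_units_ne (F := F) n
    have hfin : (Nat.card (Nil n F) : ℚ) = (Fintype.card F : ℚ) ^ (n * (n - 1)) := by
      generalize (∑ k ∈ Finset.range n, (Fintype.card F : ℚ) ^ (k * (k - 1)) /
        (Nat.card (Matrix (Fin k) (Fin k) F)ˣ : ℚ)) = s at h hd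
      field_simp at h hd
      linear_combination h - hd
    exact_mod_cast hfin

end Cfsg.Agent.KSG55.Nilp
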